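import Cfsg.Agent.Lib.Fusion.Sp62Census.Defs

/-!
# The checks from node 1
-/

set_option autoImplicit false
set_option maxRecDepth 100000

namespace CfsgLib.Fusion.Sp62Census

theorem checkB : rangeOK 1 60 = true := by decide +kernel

end CfsgLib.Fusion.Sp62Census
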