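import Cfsg.Agent.Lib.Fusion.Sp62Census.Model

/-!
# The class of the central involution of the flag group
-/

set_option autoImplicit false
set_option maxRecDepth 100000

namespace CfsgLib.Fusion.Sp62Census

open Matrix

/-- square one, every image orthogonal to its argument, sixteen fixed vectors -/
def IsA2 (g : Sp) : Prop :=
  g * g = 1 ∧ (∀ v : V, bil ((g : Matrix I I (ZMod 2)) *ᵥ v) v = 0) ∧
    Nat.card {v : V // (g : Matrix I I (ZMod 2)) *ᵥ v = v} = 16

/-- the central involution -/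
def z0C : ℕ := 0x811284081

/-- the central involution -/
def z0 : Sp := phi z0C

/-- the involutions of the class in the flag group, with conjugators from the central one -/
def a2W : List (ℕ × ℕ) := [
  (0x8106040c1, 0x802204401),
  (0x810a05081, 0x4f6771841),
  (0x810e050c1, 0x812236c01),
  (0x811284081, 0x810204081),
  (0x8116840c1, 0x810204481),
  (0x811a85081, 0x810234881),
  (0x811e850c1, 0x810234c81),
  (0x830206081, 0x501680a0),
  (0x830a07081, 0xe107610e0),
  (0x831286081, 0xb102200a1),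
  (0x831a87081, 0x7102208a1),
  (0x850304081, 0x1b6214101),
  (0x8507040c1, 0x996204501),
  (0x850b05081, 0x996234901),
  (0x850f050c1, 0x1b6224d01),
  (0x851384081, 0xd507441c1),
  (0x8517840c1, 0xd507445c1),
  (0x851b85081, 0x910230981),
  (0x851f850c1, 0x910230d81),
  (0x894204081, 0x5084c084),
  (0x895284081, 0xb10204085),
  (0x8b4206081, 0xb5016c0a4),
  (0x8b5286081, 0x3102240a5),
  (0x8d4304081, 0x150e5c0c4),
  (0x8d5384081, 0xf107440c5),
  (0x8f4b07081, 0xf062fe903),
  (0x8f5b87081, 0x7102389a5)]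

/-- their codes -/
def A2L : List ℕ := a2W.map Prod.fst

/-- the test -/
def typB (c : ℕ) : Bool :=
  Nat.beq (mm c c) oneC && (List.range 64).all (fun v => Nat.beq (Bb (ap c v) v) 0) &&
    Nat.beq ((List.range 64).filter (fun v => Nat.beq (ap c v) v)).length 16

theorem tl_len : TL.length = 512 := by decide +kernel

theorem tl_nodup : nodupB TL = true := by decide +kernel

theorem tl_ok : TL.all okC = true := by decide +kernel

theorem tl_a2 : TL.all (fun c => !typB c || memB c A2L) = true := by decide +kernel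

theorem tl_central : TL.all (fun c => Nat.beq (mm z0C c) (mm c z0C)) = true := by decide +kernel

/-- a witness -/
def witB (p : ℕ × ℕ) : Bool :=
  okC p.1 && typB p.1 && symOK p.2 && Nat.beq (mm p.2 z0C) (mm p.1 p.2)

theorem a2W_ok : a2W.all witB = true := by decide +kernel

theorem z0C_ok : okC z0C = true := by decide +kernel

theorem coe_mul (g h : Sp) : ((g * h : Sp) : Matrix I I (ZMod 2)) = g * h := rfl

theorem coe_one : ((1 : Sp) : Matrix I I (ZMod 2)) = 1 := rfl

theorem phi_sq {c : ℕ} (h : symOK c = true) : phi c * phi c = 1 ↔ dec (mm c c) = 1 := by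
  rw [← Subtype.coe_inj, coe_mul, coe_one, coe_phi h, dec_mm]

theorem card_fixed (c : ℕ) : Nat.card {v : V // dec c *ᵥ v = v} =
    ((List.range 64).filter (fun v => Nat.beq (ap c v) v)).length := by
  classical
  have hnd : ((List.range 64).filter (fun v => Nat.beq (ap c v) v)).Nodup :=
    List.Nodup.filter _ List.nodup_range
  rw [← List.toFinset_card_of_nodup hnd, ← Nat.card_eq_finsetCard]
  refine (Nat.card_congr (Equiv.ofBijective (fun n => (⟨dv n.1, ?_⟩ : {v : V // dec c *ᵥ v = v}))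
    ⟨?_, ?_⟩)).symm
  · have h := List.mem_filter.1 (List.mem_toFinset.1 n.2)
    rw [dec_mulVec, Nat.beq_eq.mp h.2]
  · intro a b e
    have ha := List.mem_range.1 (List.mem_filter.1 (List.mem_toFinset.1 a.2)).1
    have hb := List.mem_range.1 (List.mem_filter.1 (List.mem_toFinset.1 b.2)).1
    exact Subtype.ext ((dv_inj_lt ha hb).1 (congrArg Subtype.val e :))
  · rintro ⟨w, hw⟩
    obtain ⟨v, hv, rfl⟩ := dv_surjective w
    rw [dec_mulVec, dv_inj_lt (ap_lt _ _) hv] at hw
    exact ⟨⟨v, List.mem_toFinset.2 (List.mem_filter.2 ⟨List.mem_range.2 hv, by simp [hw]⟩)⟩, rfl⟩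

theorem isA2_phi {c : ℕ} (h : symOK c = true) : IsA2 (phi c) ↔ typB c = true := by
  rw [IsA2, phi_sq h, coe_phi h, card_fixed]
  simp only [typB, Bool.and_eq_true, Nat.beq_eq, List.all_eq_true, List.mem_range, and_assoc]
  refine and_congr ⟨fun e => ?_, fun e => by rw [e, dec_one]⟩ (and_congr_left' ?_)
  · exact dec_inj (mm_lt _ _) (okC_lt okC_one) (e.trans dec_one.symm)
  · constructor
    · intro e v _
      rw [← bil_eq_zero_iff, ← dec_mulVec]
      exact e _
    · intro e w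
      obtain ⟨v, hv, rfl⟩ := dv_surjective w
      rw [dec_mulVec, bil_eq_zero_iff]
      exact e v hv

theorem bil_mulVec (h : Sp) (u v : V) :
    bil ((h : Matrix I I (ZMod 2)) *ᵥ u) ((h : Matrix I I (ZMod 2)) *ᵥ v) = bil u v := by
  have e : ((h : Matrix I I (ZMod 2))ᵀ * J (Fin 3) (ZMod 2) * (h : Matrix I I (ZMod 2))) =
      J (Fin 3) (ZMod 2) := by
    have := SymplecticGroup.mem_iff.1 (SymplecticGroup.transpose_mem h.2)
    rwa [transpose_transpose] at this
  simp only [bil]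
  rw [← vecMul_transpose, ← dotProduct_mulVec, mulVec_mulVec, mulVec_mulVec, e]

theorem mulVec_inv_cancel (h : Sp) (v : V) :
    (h : Matrix I I (ZMod 2)) *ᵥ ((h⁻¹ : Sp) : Matrix I I (ZMod 2)) *ᵥ v = v := by
  rw [mulVec_mulVec, ← coe_mul, mul_inv_cancel, coe_one, one_mulVec]

theorem IsA2.conj {g : Sp} (hg : IsA2 g) (h : Sp) : IsA2 (h * g * h⁻¹) := by
  obtain ⟨h1, h2, h3⟩ := hg
  refine ⟨by rw [show h * g * h⁻¹ * (h * g * h⁻¹) = h * (g * g) * h⁻¹ by group, h1, mul_one,
    mul_inv_cancel], fun v => ?_, ?_⟩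
  · conv_lhs => arg 2; rw [← mulVec_inv_cancel h v]
    rw [coe_mul, coe_mul, ← mulVec_mulVec, ← mulVec_mulVec, bil_mulVec]
    exact h2 _
  · have mv : ∀ (a b : Sp) (v : V), ((a * b : Sp) : Matrix I I (ZMod 2)) *ᵥ v =
        (a : Matrix I I (ZMod 2)) *ᵥ ((b : Matrix I I (ZMod 2)) *ᵥ v) := fun a b v =>
      (mulVec_mulVec v _ _).symm
    have f : {v : V // ((h * g * h⁻¹ : Sp) : Matrix I I (ZMod 2)) *ᵥ v = v} ≃
        {v : V // (g : Matrix I I (ZMod 2)) *ᵥ v = v} :=
      { toFun := fun v => ⟨((h⁻¹ : Sp) : Matrix I I (ZMod 2)) *ᵥ v.1, by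
          have e := congrArg (fun w => ((h⁻¹ : Sp) : Matrix I I (ZMod 2)) *ᵥ w) v.2
          simp only [← mv] at e ⊢
          rwa [show h⁻¹ * (h * g * h⁻¹) = g * h⁻¹ by group] at e⟩
        invFun := fun v => ⟨(h : Matrix I I (ZMod 2)) *ᵥ v.1, by
          simp only [← mv]
          rw [show h * g * h⁻¹ * h = h * g by group, mv, v.2]⟩
        left_inv := fun v => Subtype.ext (mulVec_inv_cancel h v.1)
        right_inv := fun v => Subtype.ext (by
          simp only [← mv, inv_mul_cancel, coe_one, one_mulVec]) }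
    exact (Nat.card_congr f).trans h3

theorem isA2_z0 : IsA2 z0 := (isA2_phi (okC_sym z0C_ok)).2 (by decide +kernel)

theorem isA2_of_isConj {x : Sp} (h : IsConj z0 x) : IsA2 x := by
  obtain ⟨g, rfl⟩ := isConj_iff.1 h
  exact isA2_z0.conj g

theorem card_Syl : Nat.card Syl = 512 := by
  classical
  rw [← tl_len, ← List.toFinset_card_of_nodup (nodup_of_nodupB tl_nodup), ← Nat.card_eq_finsetCard]
  have hok : ∀ c ∈ TL.toFinset, okC c = true := fun c hc =>
    List.all_eq_true.1 tl_ok c (List.mem_toFinset.1 hc)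
  refine (Nat.card_congr (Equiv.ofBijective
    (fun c : TL.toFinset => (⟨phi c.1, phi_mem (hok _ c.2)⟩ : Syl)) ⟨fun a b e => ?_, ?_⟩)).symm
  · exact Subtype.ext (phi_inj (hok _ a.2) (hok _ b.2) (congrArg Subtype.val e :))
  · rintro ⟨g, hg⟩
    obtain ⟨c, hc, rfl⟩ := exists_ok hg
    exact ⟨⟨c, List.mem_toFinset.2 (mem_TL hc)⟩, rfl⟩

theorem card_Sp : Nat.card Sp = 1451520 := by
  rw [CfsgLib.Classical.card_symplecticGroup, Nat.card_zmod, Fintype.card_fin]
  simp [Finset.prod_range_succ]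

theorem sylow_conj (J : Subgroup Sp) (hJ : IsPGroup 2 J) : ∃ h : Sp, ∀ a ∈ J, h * a * h⁻¹ ∈ Syl := by
  haveI : Fact (Nat.Prime 2) := ⟨Nat.prime_two⟩
  have hf : (Nat.card Sp).factorization 2 = 9 := by
    rw [card_Sp, show 1451520 = 2 ^ 9 * 2835 by norm_num, Nat.factorization_mul (by norm_num)
      (by norm_num), Finsupp.add_apply, Nat.Prime.factorization_pow Nat.prime_two,
      Finsupp.single_eq_same, Nat.factorization_eq_zero_of_not_dvd (by norm_num)]
  let P : Sylow 2 Sp := Sylow.ofCard Syl (by rw [card_Syl, hf]; norm_num)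
  obtain ⟨Q, hQ⟩ := hJ.exists_le_sylow
  obtain ⟨g, hg⟩ := MulAction.exists_smul_eq Sp Q P
  refine ⟨g, fun a ha => ?_⟩
  have h : g * a * g⁻¹ ∈ ((g • Q : Sylow 2 Sp) : Subgroup Sp) := by
    rw [Sylow.coe_subgroup_smul, Subgroup.mem_pointwise_smul_iff_inv_smul_mem]
    simpa [MulAut.smul_def, MulAut.conj_inv_apply, mul_assoc] using hQ ha
  rw [hg] at h
  exact h

theorem z0_mem : z0 ∈ Syl := phi_mem z0C_ok

theorem z0_sq : z0 * z0 = 1 := isA2_z0.1

theorem z0_central {a : Sp} (ha : a ∈ Syl) : z0 * a = a * z0 := by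
  obtain ⟨c, hc, rfl⟩ := exists_ok ha
  have h := List.all_eq_true.1 tl_central c (mem_TL hc)
  rw [z0, ← phi_mul (okC_sym z0C_ok) (okC_sym hc), Nat.beq_eq.mp h,
    phi_mul (okC_sym hc) (okC_sym z0C_ok)]

theorem isConj_of_typB {c : ℕ} (hc : okC c = true) (ht : typB c = true) : IsConj z0 (phi c) := by
  have h := List.all_eq_true.1 tl_a2 c (mem_TL hc)
  rw [ht] at h
  obtain ⟨p, hp, rfl⟩ := List.mem_map.1 (show c ∈ A2L from memB_iff.1 (by simpa using h))
  have hw := List.all_eq_true.1 a2W_ok p hp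
  simp only [witB, Bool.and_eq_true, Nat.beq_eq, and_assoc] at hw
  obtain ⟨h1, -, h3, h4⟩ := hw
  refine isConj_iff.2 ⟨phi p.2, ?_⟩
  rw [z0, ← phi_mul h3 (okC_sym z0C_ok), h4, phi_mul (okC_sym h1) h3, mul_inv_cancel_right]

theorem typB_of_mem {c : ℕ} (h : c ∈ A2L) : okC c = true ∧ typB c = true := by
  obtain ⟨p, hp, rfl⟩ := List.mem_map.1 h
  have hw := List.all_eq_true.1 a2W_ok p hp
  simp only [witB, Bool.and_eq_true, and_assoc] at hw
  exact ⟨hw.1, hw.2.1⟩

/-- One class. -/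
theorem isA2_iff {x : Sp} : IsA2 x ↔ IsConj z0 x := by
  refine ⟨fun hx => ?_, isA2_of_isConj⟩
  have h2 : IsPGroup 2 (Subgroup.zpowers x) := IsPGroup.of_card_dvd_pow (n := 1) (by
    rw [Nat.card_zpowers, pow_one]
    exact orderOf_dvd_of_pow_eq_one (by rw [pow_two, hx.1]))
  obtain ⟨h, hh⟩ := sylow_conj _ h2
  obtain ⟨c, hc, e⟩ := exists_ok (hh x (Subgroup.mem_zpowers x))
  have ht : typB c = true := (isA2_phi (okC_sym hc)).1 (e ▸ hx.conj h)
  exact (e ▸ isConj_of_typB hc ht).trans (isConj_iff.2 ⟨h⁻¹, by group⟩)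

end CfsgLib.Fusion.Sp62Census
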