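import Mathlib.LinearAlgebra.SymplecticGroup
import Mathlib.Data.ZMod.Basic
import Mathlib.LinearAlgebra.Matrix.Block
import Mathlib.Tactic

/-!
# Six columns in a number, for the symplectic group of degree six modulo two
-/

set_option autoImplicit false

namespace CfsgLib.Fusion.Sp62Census

open Matrix

/-- the six indices -/
abbrev I : Type := Fin 3 ⊕ Fin 3

/-- the group -/
abbrev Sp : Type := ↥(symplecticGroup (Fin 3) (ZMod 2))

/-- the vectors -/
abbrev V : Type := I → ZMod 2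

/-- position of an index -/
def idx : I → ℕ
  | Sum.inl i => i
  | Sum.inr i => i + 3

theorem idx_lt (i : I) : idx i < 6 := by rcases i with i | i <;> simp only [idx] <;> omega

theorem exists_idx : ∀ n < 6, ∃ i : I, idx i = n := by decide

/-- a bit -/
def bit (v n : ℕ) : ZMod 2 := if v.testBit n then 1 else 0

/-- the vector of a number -/
def dv (v : ℕ) : V := fun i => bit v (idx i)

theorem dv_surjective : ∀ w : V, ∃ v < 64, dv v = w := by decide +kernel

theorem dv_inj {v w : ℕ} : dv v = dv w ↔ v % 64 = w % 64 := by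
  constructor
  · intro h
    refine Nat.eq_of_testBit_eq fun n => ?_
    rw [show (64 : ℕ) = 2 ^ 6 from rfl, Nat.testBit_mod_two_pow, Nat.testBit_mod_two_pow]
    by_cases hn : n < 6
    · obtain ⟨i, rfl⟩ := exists_idx n hn
      have e := congrFun h i
      simp only [dv, bit] at e
      cases hv : v.testBit (idx i) <;> cases hw : w.testBit (idx i) <;> simp_all
    · simp [hn]
  · intro h
    funext i
    have e := congrArg (fun x => Nat.testBit x (idx i)) h
    simp only [show (64 : ℕ) = 2 ^ 6 from rfl, Nat.testBit_mod_two_pow, idx_lt i, decide_true,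
      Bool.true_and] at e
    simp only [dv, bit, e]

theorem dv_inj_lt {v w : ℕ} (hv : v < 64) (hw : w < 64) : dv v = dv w ↔ v = w := by
  rw [dv_inj, Nat.mod_eq_of_lt hv, Nat.mod_eq_of_lt hw]

theorem bit_xor (x y n : ℕ) : bit (x ^^^ y) n = bit x n + bit y n := by
  simp only [bit, Nat.testBit_xor]
  cases x.testBit n <;> cases y.testBit n <;> decide

theorem dv_xor (x y : ℕ) : dv (x ^^^ y) = dv x + dv y := funext fun _ => bit_xor _ _ _

theorem dv_zero : dv 0 = 0 := by decide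

/-- a column -/
def col (c j : ℕ) : ℕ := (c >>> (6 * j)) % 64

/-- a column if a bit is set -/
def sel (v k x : ℕ) : ℕ := ((v >>> k) % 2) * x

theorem sel_eq (v k x : ℕ) : sel v k x = if v.testBit k then x else 0 := by
  rw [sel, Nat.testBit_eq_decide_div_mod_eq, Nat.shiftRight_eq_div_pow]
  rcases Nat.mod_two_eq_zero_or_one (v / 2 ^ k) with h | h <;> simp [h]

theorem bit_sel (v k x n : ℕ) : bit (sel v k x) n = bit x n * bit v k := by
  rw [sel_eq]
  cases h : v.testBit k <;> simp [bit, h]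

/-- matrix times vector -/
def ap (c v : ℕ) : ℕ :=
  sel v 0 (col c 0) ^^^ (sel v 1 (col c 1) ^^^ (sel v 2 (col c 2) ^^^
    (sel v 3 (col c 3) ^^^ (sel v 4 (col c 4) ^^^ sel v 5 (col c 5)))))

/-- six columns in a number -/
def pack (a b c d e f : ℕ) : ℕ := a + 64 * (b + 64 * (c + 64 * (d + 64 * (e + 64 * f))))

/-- product -/
def mm (a b : ℕ) : ℕ :=
  pack (ap a (col b 0)) (ap a (col b 1)) (ap a (col b 2)) (ap a (col b 3)) (ap a (col b 4))
    (ap a (col b 5))

/-- the identity -/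
def oneC : ℕ := pack 1 2 4 8 16 32

/-- the matrix -/
def dec (c : ℕ) : Matrix I I (ZMod 2) := of fun i j => bit (col c (idx j)) (idx i)

theorem dec_mulVec (c v : ℕ) : dec c *ᵥ dv v = dv (ap c v) := by
  funext i
  simp only [dv, ap, bit_xor, bit_sel, mulVec, dotProduct, Fintype.sum_sum_type, Fin.sum_univ_three,
    dec, of_apply, idx]
  norm_num
  ring

theorem col_lt (c j : ℕ) : col c j < 64 := Nat.mod_lt _ (by norm_num)

theorem sel_lt {x : ℕ} (v k : ℕ) (h : x < 64) : sel v k x < 64 := by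
  rw [sel_eq]; split <;> omega

theorem ap_lt (c v : ℕ) : ap c v < 64 := by
  simp only [ap, show (64 : ℕ) = 2 ^ 6 from rfl]
  repeat' apply Nat.xor_lt_two_pow
  all_goals exact sel_lt _ _ (col_lt _ _)

theorem col_pack {a b c d e f : ℕ} (ha : a < 64) (hb : b < 64) (hc : c < 64) (hd : d < 64)
    (he : e < 64) (hf : f < 64) :
    col (pack a b c d e f) 0 = a ∧ col (pack a b c d e f) 1 = b ∧ col (pack a b c d e f) 2 = c ∧
      col (pack a b c d e f) 3 = d ∧ col (pack a b c d e f) 4 = e ∧ col (pack a b c d e f) 5 = f := by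
  simp only [col, pack, Nat.shiftRight_eq_div_pow]
  norm_num
  omega

theorem pack_lt {a b c d e f : ℕ} (ha : a < 64) (hb : b < 64) (hc : c < 64) (hd : d < 64)
    (he : e < 64) (hf : f < 64) : pack a b c d e f < 2 ^ 36 := by
  simp only [pack]
  omega

theorem pack_col {c : ℕ} (h : c < 2 ^ 36) :
    pack (col c 0) (col c 1) (col c 2) (col c 3) (col c 4) (col c 5) = c := by
  simp only [col, pack, Nat.shiftRight_eq_div_pow]
  norm_num
  omega

theorem col_mm (a b : ℕ) : ∀ j < 6, col (mm a b) j = ap a (col b j) := by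
  intro j hj
  obtain ⟨h0, h1, h2, h3, h4, h5⟩ := col_pack (ap_lt a (col b 0)) (ap_lt a (col b 1))
    (ap_lt a (col b 2)) (ap_lt a (col b 3)) (ap_lt a (col b 4)) (ap_lt a (col b 5))
  simp only [mm]
  interval_cases j <;> assumption

theorem mm_lt (a b : ℕ) : mm a b < 2 ^ 36 :=
  pack_lt (ap_lt _ _) (ap_lt _ _) (ap_lt _ _) (ap_lt _ _) (ap_lt _ _) (ap_lt _ _)

theorem dec_mm (a b : ℕ) : dec (mm a b) = dec a * dec b := by
  ext i j
  have h : (dec a * dec b) i j = (dec a *ᵥ dv (col b (idx j))) i := rfl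
  rw [h, dec_mulVec]
  simp only [dec, of_apply, dv, col_mm a b (idx j) (idx_lt j)]

theorem dec_one : dec oneC = 1 := by decide +kernel

theorem dec_inj {a b : ℕ} (ha : a < 2 ^ 36) (hb : b < 2 ^ 36) (h : dec a = dec b) : a = b := by
  rw [← pack_col ha, ← pack_col hb]
  have k : ∀ n < 6, col a n = col b n := by
    intro n hn
    obtain ⟨j, rfl⟩ := exists_idx n hn
    refine (dv_inj_lt (col_lt _ _) (col_lt _ _)).1 (funext fun i => ?_)
    exact congrFun (congrFun h i) j
  rw [k 0 (by norm_num), k 1 (by norm_num), k 2 (by norm_num), k 3 (by norm_num),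
    k 4 (by norm_num), k 5 (by norm_num)]

theorem exists_code (A : Matrix I I (ZMod 2)) : ∃ c < 2 ^ 36, dec c = A := by
  have h : ∀ j : I, ∃ v < 64, dv v = fun i => A i j := fun j => dv_surjective _
  choose f hf hd using h
  refine ⟨pack (f (Sum.inl 0)) (f (Sum.inl 1)) (f (Sum.inl 2)) (f (Sum.inr 0)) (f (Sum.inr 1))
    (f (Sum.inr 2)), pack_lt (hf _) (hf _) (hf _) (hf _) (hf _) (hf _), ?_⟩
  obtain ⟨h0, h1, h2, h3, h4, h5⟩ := col_pack (hf (Sum.inl 0)) (hf (Sum.inl 1)) (hf (Sum.inl 2))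
    (hf (Sum.inr 0)) (hf (Sum.inr 1)) (hf (Sum.inr 2))
  ext i j
  rw [← congrFun (hd j) i]
  rcases j with j | j <;> fin_cases j <;>
    simp [dec, dv, idx, h0, h1, h2, h3, h4, h5]

/-- the alternating form -/
def bil (u v : V) : ZMod 2 := u ⬝ᵥ (J (Fin 3) (ZMod 2) *ᵥ v)

/-- the form on numbers -/
def Bb (u v : ℕ) : ℕ :=
  ((u >>> 3) * v + (u >>> 4) * (v >>> 1) + (u >>> 5) * (v >>> 2) + u * (v >>> 3) +
    (u >>> 1) * (v >>> 4) + (u >>> 2) * (v >>> 5)) % 2

theorem bit_eq (v n : ℕ) : bit v n = ((v >>> n : ℕ) : ZMod 2) := by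
  rw [bit, Nat.testBit_eq_decide_div_mod_eq, Nat.shiftRight_eq_div_pow, ← ZMod.natCast_mod]
  rcases Nat.mod_two_eq_zero_or_one (v / 2 ^ n) with h | h <;> simp [h]

theorem bil_dv (u v : ℕ) : bil (dv u) (dv v) = (Bb u v : ZMod 2) := by
  simp only [bil, Bb, ZMod.natCast_mod, Nat.cast_add, Nat.cast_mul, dotProduct, mulVec, J,
    Fintype.sum_sum_type, Fin.sum_univ_three, dv, idx, bit_eq]
  simp [fromBlocks, one_apply, Nat.shiftRight_zero, ZMod.neg_eq_self_mod_two]
  ring

theorem Bb_lt (u v : ℕ) : Bb u v < 2 := Nat.mod_lt _ (by norm_num)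

theorem Bb_eq_iff {u v w x : ℕ} : Bb u v = Bb w x ↔ bil (dv u) (dv v) = bil (dv w) (dv x) := by
  rw [bil_dv, bil_dv, ZMod.natCast_eq_natCast_iff', Nat.mod_eq_of_lt (Bb_lt u v),
    Nat.mod_eq_of_lt (Bb_lt w x)]

theorem bil_eq_zero_iff {u v : ℕ} : bil (dv u) (dv v) = 0 ↔ Bb u v = 0 := by
  rw [bil_dv, ← Nat.cast_zero (R := ZMod 2), ZMod.natCast_eq_natCast_iff',
    Nat.mod_eq_of_lt (Bb_lt u v)]

theorem symp_iff_bil (A : Matrix I I (ZMod 2)) : A ∈ symplecticGroup (Fin 3) (ZMod 2) ↔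
    ∀ j k : I, bil (fun i => A i j) (fun i => A i k) = J (Fin 3) (ZMod 2) j k := by
  have h : A ∈ symplecticGroup (Fin 3) (ZMod 2) ↔
      Aᵀ * J (Fin 3) (ZMod 2) * A = J (Fin 3) (ZMod 2) := by
    rw [← SymplecticGroup.transpose_mem_iff, SymplecticGroup.mem_iff, transpose_transpose]
  rw [h, ← Matrix.ext_iff]
  refine forall_congr' fun j => forall_congr' fun k => ?_
  rw [Matrix.mul_assoc]
  simp only [bil, mul_apply, transpose_apply, dotProduct, mulVec]

/-- the code of the form matrix -/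
def jB (n m : ℕ) : ℕ := Bb (2 ^ n) (2 ^ m)

theorem jB_spec (j k : I) : (jB (idx j) (idx k) : ZMod 2) = J (Fin 3) (ZMod 2) j k := by
  rw [jB, ← bil_dv]
  rcases j with j | j <;> rcases k with k | k <;> fin_cases j <;> fin_cases k <;> decide +kernel

/-- one test of the symplectic condition -/
def pairOK (c n m : ℕ) : Bool := Nat.beq (Bb (col c n) (col c m)) (jB n m)

/-- the symplectic condition -/
def symOK (c : ℕ) : Bool :=
  pairOK c 0 1 && pairOK c 0 2 && pairOK c 0 3 && pairOK c 0 4 && pairOK c 0 5 && pairOK c 1 2 &&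
    pairOK c 1 3 && pairOK c 1 4 && pairOK c 1 5 && pairOK c 2 3 && pairOK c 2 4 && pairOK c 2 5 &&
    pairOK c 3 4 && pairOK c 3 5 && pairOK c 4 5

theorem Bb_comm (u v : ℕ) : Bb u v = Bb v u := by simp only [Bb]; ring_nf

theorem Bb_self (u : ℕ) : Bb u u = 0 := by
  simp only [Bb]
  rw [show (u >>> 3) * u + (u >>> 4) * (u >>> 1) + (u >>> 5) * (u >>> 2) + u * (u >>> 3) +
    (u >>> 1) * (u >>> 4) + (u >>> 2) * (u >>> 5) =
    2 * ((u >>> 3) * u + (u >>> 4) * (u >>> 1) + (u >>> 5) * (u >>> 2)) by ring]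
  exact Nat.mul_mod_right _ _

theorem pairOK_iff {c : ℕ} (j k : I) : pairOK c (idx j) (idx k) = true ↔
    bil (fun i => dec c i j) (fun i => dec c i k) = J (Fin 3) (ZMod 2) j k := by
  rw [pairOK, Nat.beq_eq, ← jB_spec, jB, ← bil_dv, Bb_eq_iff]
  rfl

theorem mem_symp_of_symOK {c : ℕ} (h : symOK c = true) :
    dec c ∈ symplecticGroup (Fin 3) (ZMod 2) := by
  rw [symp_iff_bil]
  intro j k
  rw [← pairOK_iff]
  simp only [symOK, Bool.and_eq_true, and_assoc, pairOK, Nat.beq_eq] at h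
  obtain ⟨a, b, d, e, f, g, i, l, m, n, o, p, q, r, s⟩ := h
  have sym : ∀ n m : ℕ, Bb (col c n) (col c m) = jB n m → Bb (col c m) (col c n) = jB m n := by
    intro n m e
    rwa [Bb_comm, jB, Bb_comm (2 ^ m), ← jB]
  have key : ∀ n < 6, ∀ m < 6, Bb (col c n) (col c m) = jB n m := by
    intro n hn m hm
    interval_cases n <;> interval_cases m
    all_goals first
      | assumption
      | (simp only [jB, Bb_self]; done)
      | (apply sym; assumption)
  rw [pairOK, Nat.beq_eq]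
  exact key _ (idx_lt j) _ (idx_lt k)

end CfsgLib.Fusion.Sp62Census
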