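import Cfsg.Agent.Lib.Fusion.Sp62Census.Class
import Cfsg.Agent.Lib.Fusion.Sp62Census.Data

/-!
# The checks on the table
-/

set_option autoImplicit false

namespace CfsgLib.Fusion.Sp62Census

/-- equality of lists of numbers -/
def eqL : List ℕ → List ℕ → Bool
  | [], [] => true
  | a :: l, b :: m => Nat.beq a b && eqL l m
  | _, _ => false

theorem eqL_iff : ∀ {l m : List ℕ}, eqL l m = true ↔ l = m
  | [], [] => by simp [eqL]
  | [], _ :: _ => by simp [eqL]
  | _ :: _, [] => by simp [eqL]
  | a :: l, b :: m => by simp [eqL, eqL_iff (l := l) (m := m)]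

/-- elements -/
def elsC (i : ℕ) : List ℕ := unp (nodeAt i).nE (nodeAt i).xE

/-- centralizer in the flag group -/
def centC (i : ℕ) : List ℕ := unp (nodeAt i).nC (nodeAt i).xC

/-- entries -/
def entC : List ℕ → List (ℕ × ℕ × ℕ)
  | a :: b :: c :: l => (a, b, c) :: entC l
  | _ => []

/-- entries of a node -/
def entsC (i : ℕ) : List (ℕ × ℕ × ℕ) := entC (unp (nodeAt i).nN (nodeAt i).xN)

/-- the elements of a node form a subgroup free of the class -/
def nodeOK (i : ℕ) : Bool :=
  let l := elsC i
  memB oneC l && nodupB l && l.all (fun a => okC a && !memB a A2L) &&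
    l.all (fun a => l.all fun b => memB (mm a b) l)

/-- the root -/
def rootOK : Bool :=
  eqL (elsC 0) [oneC] && (centC 0).all okC && nodupB (centC 0) &&
    TL.all (fun c => memB c (centC 0))

/-- a node against its parent -/
def childOK (i : ℕ) : Bool :=
  let n := nodeAt i
  Nat.blt n.par i && memB n.k (centC n.par) &&
    eqL (elsC i) (elsC n.par ++ (elsC n.par).map (mm n.k)) &&
    eqL (centC i) ((centC n.par).filter fun c => Nat.beq (mm c n.k) (mm n.k c))

/-- an entry: a coset with an element of the class, or one conjugate into a listed node -/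
def entOK (l : List ℕ) (e : ℕ × ℕ × ℕ) : Bool :=
  okC e.1 &&
    (if Nat.beq e.2.2 0 then memB e.2.1 l && memB (mm e.1 e.2.1) A2L
     else
      Nat.blt (e.2.2 - 1) nN && okC e.2.1 &&
        Nat.beq (elsC (e.2.2 - 1)).length (2 * l.length) &&
        (let im := (elsC (e.2.2 - 1)).map fun b => mm b e.2.1
         l.all (fun a => memB (mm e.2.1 a) im && memB (mm e.2.1 (mm e.1 a)) im)))

/-- the entries cover all extensions -/
def coverOK (i : ℕ) : Bool :=
  let l := elsC i
  let es := entsC i
  es.all (entOK l) &&
    (let cov := es.flatMap fun e => l.map (mm e.1)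
     (centC i).all fun c => memB c l || memB c cov || !memB (mm c c) l)

/-- a witness that some coset avoids the class -/
def witOK (l : List ℕ) (k : ℕ) : Bool :=
  symOK k && Nat.blt k (2 ^ 36) && !memB k l && memB (mm k k) l &&
    l.all (fun a => Nat.beq (mm k a) (mm a k) && !typB (mm k a))

/-- the invariant of a fixed vector at one element -/
def sig1 (a v : ℕ) : ℕ :=
  (if (List.range 64).any (fun w => Nat.beq (ap a w ^^^ w) v && Nat.beq (Bb v w) 0) then 1 else 0) +
  (if (List.range 64).any (fun w => Nat.beq (ap a w ^^^ w) v && Nat.beq (Bb v w) 1) then 2 else 0)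

/-- the vectors fixed by a node -/
def fixC (l : List ℕ) : List ℕ := (List.range 64).filter fun v => l.all fun a => Nat.beq (ap a v) v

/-- classes of the invariants have at most two members -/
def smallOK (P : List (ℕ × List ℕ)) : Bool :=
  P.all fun p => Nat.ble (P.filter fun q => eqL q.2 p.2).length 2

/-- a maximal node: no odd element centralizes it and many involutions do -/
def leafOK (i : ℕ) : Bool :=
  let l := elsC i
  let at' := unp (nodeAt i).nA (nodeAt i).xA
  at'.all (fun a => memB a l) &&
    smallOK ((fixC l).map fun v => (v, at'.map fun a => sig1 a v)) &&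
    Nat.blt l.length ((centC i).filter fun c => !memB c l && memB (mm c c) l).length

/-- a node has an extension or is small -/
def termOK (i : ℕ) : Bool :=
  if Nat.beq (nodeAt i).wit 0 then leafOK i else witOK (elsC i) (nodeAt i).wit

/-- all checks at one node -/
def allOK (i : ℕ) : Bool :=
  nodeOK i && (if Nat.beq i 0 then rootOK else childOK i) && coverOK i && termOK i

/-- all checks in an interval -/
def rangeOK (a n : ℕ) : Bool := (List.range n).all fun j => allOK (a + j)

end CfsgLib.Fusion.Sp62Census
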