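import Cfsg.Agent.Lib.Fusion.Sp62Census.Code
import Cfsg.Agent.Lib.Classical.SympOrder
import Mathlib.GroupTheory.Sylow

/-!
# The model: a Sylow two-subgroup and the involutions with totally singular square-zero part
-/

set_option autoImplicit false

namespace CfsgLib.Fusion.Sp62Census

open Matrix

/-- the element with a given code -/
def phi (c : ℕ) : Sp := if h : symOK c = true then ⟨dec c, mem_symp_of_symOK h⟩ else 1

theorem coe_phi {c : ℕ} (h : symOK c = true) : (phi c : Matrix I I (ZMod 2)) = dec c := by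
  rw [phi, dif_pos h]

/-- position in the flag -/
def pos : I → ℕ
  | Sum.inl i => i
  | Sum.inr i => 5 - i

theorem pos_inj : ∀ i j : I, pos i = pos j → i = j := by decide

/-- the flag matrices -/
def flagMonoid : Submonoid Sp where
  carrier := {g | BlockTriangular (g : Matrix I I (ZMod 2)) pos}
  one_mem' := blockTriangular_one
  mul_mem' := fun ha hb => ha.mul hb

/-- the Sylow subgroup -/
def Syl : Subgroup Sp where
  toSubmonoid := flagMonoid
  inv_mem' := by
    intro g hg
    have e : g⁻¹ = g ^ (orderOf g - 1) := inv_eq_of_mul_eq_one_right (by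
      rw [← pow_succ', Nat.sub_add_cancel (orderOf_pos g), pow_orderOf_eq_one])
    rw [e]
    exact pow_mem (show g ∈ flagMonoid from hg) _

theorem mem_Syl {g : Sp} : g ∈ Syl ↔ BlockTriangular (g : Matrix I I (ZMod 2)) pos := Iff.rfl

/-- the triangular condition on codes -/
def triB (c : ℕ) : Bool :=
  Nat.beq (col c 0 &&& 62) 0 && Nat.beq (col c 1 &&& 60) 0 && Nat.beq (col c 2 &&& 56) 0 &&
    Nat.beq (col c 5 &&& 24) 0 && Nat.beq (col c 4 &&& 8) 0

/-- masks of the forbidden bits, by column -/
def badMask : I → ℕ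
  | Sum.inl i => ![62, 60, 56] i
  | Sum.inr i => ![0, 8, 24] i

theorem tri_col (j : I) : ∀ v < 64, (v &&& badMask j = 0 ↔ ∀ i : I, pos j < pos i → bit v (idx i) = 0) := by
  revert j; decide +kernel

theorem triB_iff {c : ℕ} : triB c = true ↔ BlockTriangular (dec c) pos := by
  have h : BlockTriangular (dec c) pos ↔ ∀ j : I, col c (idx j) &&& badMask j = 0 := by
    constructor
    · intro h j
      exact (tri_col j _ (col_lt _ _)).2 fun i hi => h hi
    · intro h i j hij
      exact (tri_col j _ (col_lt _ _)).1 (h j) i hij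
  rw [h]
  simp only [triB, Bool.and_eq_true, Nat.beq_eq, and_assoc]
  constructor
  · rintro ⟨h0, h1, h2, h5, h4⟩ j
    rcases j with j | j <;> fin_cases j <;> simp [badMask, idx, h0, h1, h2, h5, h4]
  · intro h
    exact ⟨h (Sum.inl 0), h (Sum.inl 1), h (Sum.inl 2), h (Sum.inr 2), h (Sum.inr 1)⟩

/-- a code of an element of `Syl` -/
def okC (c : ℕ) : Bool := Nat.blt c (2 ^ 36) && symOK c && triB c

theorem okC_lt {c : ℕ} (h : okC c = true) : c < 2 ^ 36 := by
  simp only [okC, Bool.and_eq_true, Nat.blt_eq] at h; exact h.1.1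

theorem okC_sym {c : ℕ} (h : okC c = true) : symOK c = true := by
  simp only [okC, Bool.and_eq_true] at h; exact h.1.2

theorem coe_ok {c : ℕ} (h : okC c = true) : (phi c : Matrix I I (ZMod 2)) = dec c :=
  coe_phi (okC_sym h)

theorem phi_mem {c : ℕ} (h : okC c = true) : phi c ∈ Syl := by
  rw [mem_Syl, coe_ok h, ← triB_iff]
  simp only [okC, Bool.and_eq_true] at h; exact h.2

theorem exists_ok {g : Sp} (hg : g ∈ Syl) : ∃ c, okC c = true ∧ phi c = g := by
  obtain ⟨c, hc, e⟩ := exists_code (g : Matrix I I (ZMod 2))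
  have hs : symOK c = true := by
    have h : dec c ∈ symplecticGroup (Fin 3) (ZMod 2) := e ▸ g.2
    rw [symp_iff_bil] at h
    have key : ∀ j k : I, pairOK c (idx j) (idx k) = true := fun j k => (pairOK_iff j k).2 (h j k)
    simp only [symOK, Bool.and_eq_true, and_assoc]
    exact ⟨key (.inl 0) (.inl 1), key (.inl 0) (.inl 2), key (.inl 0) (.inr 0), key (.inl 0) (.inr 1),
      key (.inl 0) (.inr 2), key (.inl 1) (.inl 2), key (.inl 1) (.inr 0), key (.inl 1) (.inr 1),
      key (.inl 1) (.inr 2), key (.inl 2) (.inr 0), key (.inl 2) (.inr 1), key (.inl 2) (.inr 2),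
      key (.inr 0) (.inr 1), key (.inr 0) (.inr 2), key (.inr 1) (.inr 2)⟩
  have ht : triB c = true := by rw [triB_iff, e]; exact hg
  refine ⟨c, ?_, Subtype.ext ((coe_phi hs).trans e)⟩
  simp only [okC, hs, ht, Bool.and_true, Nat.blt_eq]; exact hc

theorem phi_inj {a b : ℕ} (ha : okC a = true) (hb : okC b = true) (h : phi a = phi b) : a = b :=
  dec_inj (okC_lt ha) (okC_lt hb) (by rw [← coe_ok ha, ← coe_ok hb, h])

theorem symOK_of_eq {c : ℕ} {g : Sp} (e : (g : Matrix I I (ZMod 2)) = dec c) : symOK c = true := by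
  have h : dec c ∈ symplecticGroup (Fin 3) (ZMod 2) := e ▸ g.2
  rw [symp_iff_bil] at h
  have key : ∀ j k : I, pairOK c (idx j) (idx k) = true := fun j k => (pairOK_iff j k).2 (h j k)
  simp only [symOK, Bool.and_eq_true, and_assoc]
  exact ⟨key (.inl 0) (.inl 1), key (.inl 0) (.inl 2), key (.inl 0) (.inr 0), key (.inl 0) (.inr 1),
    key (.inl 0) (.inr 2), key (.inl 1) (.inl 2), key (.inl 1) (.inr 0), key (.inl 1) (.inr 1),
    key (.inl 1) (.inr 2), key (.inl 2) (.inr 0), key (.inl 2) (.inr 1), key (.inl 2) (.inr 2),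
    key (.inr 0) (.inr 1), key (.inr 0) (.inr 2), key (.inr 1) (.inr 2)⟩

theorem phi_mul {a b : ℕ} (ha : symOK a = true) (hb : symOK b = true) :
    phi (mm a b) = phi a * phi b := by
  have e : ((phi a * phi b : Sp) : Matrix I I (ZMod 2)) = dec (mm a b) := by
    rw [dec_mm, ← coe_phi ha, ← coe_phi hb]; rfl
  exact Subtype.ext ((coe_phi (symOK_of_eq e)).trans e.symm)

theorem symOK_mm {a b : ℕ} (ha : symOK a = true) (hb : symOK b = true) :
    symOK (mm a b) = true :=
  symOK_of_eq (g := phi a * phi b) (by rw [dec_mm, ← coe_phi ha, ← coe_phi hb]; rfl)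

theorem okC_mm {a b : ℕ} (ha : okC a = true) (hb : okC b = true) : okC (mm a b) = true := by
  have h : phi (mm a b) ∈ Syl := phi_mul (okC_sym ha) (okC_sym hb) ▸ mul_mem (phi_mem ha) (phi_mem hb)
  have hs := symOK_mm (okC_sym ha) (okC_sym hb)
  have ht : triB (mm a b) = true := by rw [triB_iff, ← coe_phi hs]; exact h
  simp only [okC, hs, ht, Bool.and_true, Nat.blt_eq]; exact mm_lt a b

theorem okC_one : okC oneC = true := by decide +kernel

theorem phi_one : phi oneC = 1 :=
  Subtype.ext ((coe_ok okC_one).trans dec_one)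

/-! ### The list of codes -/

/-- keep the candidates orthogonal in the prescribed way to the earlier column -/
def cond1 (n m : ℕ) (x y : ℕ) : Bool := Nat.beq (Bb x y) (jB n m)

/-- the subsets of a set of bits -/
def below (m : ℕ) : List ℕ := (List.range 64).filter fun v => Nat.beq (v &&& m) 0

/-- all codes, column by column -/
def TL : List ℕ :=
  (below 62).flatMap fun a => (below 60).flatMap fun b => (below 56).flatMap fun c =>
    if cond1 0 1 a b && cond1 0 2 a c && cond1 1 2 b c then
      (below 24).flatMap fun f =>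
        if cond1 0 5 a f && cond1 1 5 b f && cond1 2 5 c f then
          (below 8).flatMap fun e =>
            if cond1 0 4 a e && cond1 1 4 b e && cond1 2 4 c e && cond1 4 5 e f then
              (List.range 64).flatMap fun d =>
                if cond1 0 3 a d && cond1 1 3 b d && cond1 2 3 c d && cond1 3 4 d e &&
                    cond1 3 5 d f then [pack a b c d e f] else []
            else []
        else []
    else []

theorem mem_below {m v : ℕ} : v ∈ below m ↔ v < 64 ∧ v &&& m = 0 := by
  simp [below]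

theorem mem_TL {c : ℕ} (h : okC c = true) : c ∈ TL := by
  simp only [okC, Bool.and_eq_true, Nat.blt_eq, triB, Nat.beq_eq, symOK, pairOK, and_assoc] at h
  obtain ⟨hlt, a, b, d, e, f, g, i, l, m, n, o, p, q, r, s, t0, t1, t2, t5, t4⟩ := h
  rw [← pack_col hlt]
  simp only [TL, List.mem_flatMap, mem_below]
  refine ⟨_, ⟨col_lt c 0, t0⟩, _, ⟨col_lt c 1, t1⟩, _, ⟨col_lt c 2, t2⟩, ?_⟩
  rw [if_pos (by simp [cond1, a, b, g]), List.mem_flatMap]
  refine ⟨_, mem_below.2 ⟨col_lt c 5, t5⟩, ?_⟩
  rw [if_pos (by simp [cond1, f, m, p]), List.mem_flatMap]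
  refine ⟨_, mem_below.2 ⟨col_lt c 4, t4⟩, ?_⟩
  rw [if_pos (by simp [cond1, e, l, o, s]), List.mem_flatMap]
  refine ⟨_, List.mem_range.2 (col_lt c 3), ?_⟩
  rw [if_pos (by simp [cond1, d, i, n, q, r])]
  exact List.mem_singleton.2 rfl

/-- membership with fast equality -/
def memB (a : ℕ) : List ℕ → Bool
  | [] => false
  | x :: l => Nat.beq a x || memB a l

theorem memB_iff {a : ℕ} {l : List ℕ} : memB a l = true ↔ a ∈ l := by
  induction l with
  | nil => simp [memB]
  | cons x l ih => simp [memB, ih]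

/-- no repetition -/
def nodupB : List ℕ → Bool
  | [] => true
  | x :: l => !memB x l && nodupB l

theorem nodup_of_nodupB {l : List ℕ} (h : nodupB l = true) : l.Nodup := by
  induction l with
  | nil => exact List.nodup_nil
  | cons x l ih =>
    simp only [nodupB, Bool.and_eq_true, Bool.not_eq_true'] at h
    exact List.nodup_cons.2 ⟨fun hm => by rw [memB_iff.2 hm] at h; exact Bool.noConfusion h.1,
      ih h.2⟩

end CfsgLib.Fusion.Sp62Census
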