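import Cfsg.Agent.Lib.DFour.CensusCrit
import Cfsg.Agent.Lib.DFour.CensusFix
import Cfsg.Agent.Lib.Fusion.Sp62Census.CheckA
import Cfsg.Agent.Lib.Fusion.Sp62Census.CheckB
import Cfsg.Agent.Lib.Fusion.Sp62Census.CheckC
import Cfsg.Agent.Lib.Fusion.Sp62Census.CheckD

/-!
# The census inside the flag group
-/

set_option autoImplicit false
set_option maxRecDepth 100000

namespace CfsgLib.Fusion.Sp62Census

open Matrix Subgroup
open CfsgLib.DFour.Census

theorem all_ok {i : ℕ} (hi : i < nN) : allOK i = true := by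
  have key : ∀ a n, rangeOK a n = true → a ≤ i → i < a + n → allOK i = true := by
    intro a n h h1 h2
    have := List.all_eq_true.1 h (i - a) (List.mem_range.2 (by omega))
    rwa [Nat.add_sub_cancel' h1] at this
  have : i < 1 ∨ (1 ≤ i ∧ i < 61) ∨ (61 ≤ i ∧ i < 161) ∨ 161 ≤ i := by omega
  rcases this with h | h | h | h
  · exact key 0 1 checkA (by omega) (by omega)
  · exact key 1 60 checkB h.1 (by omega)
  · exact key 61 100 checkC h.1 (by omega)
  · exact key 161 100 checkD h (by simp only [nN] at hi; omega)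

theorem nodeOK_ok {i : ℕ} (hi : i < nN) : nodeOK i = true := by
  have h := all_ok hi
  simp only [allOK, Bool.and_eq_true] at h
  exact h.1.1.1

theorem els_ok {i : ℕ} (hi : i < nN) : oneC ∈ elsC i ∧ (elsC i).Nodup ∧
    (∀ a ∈ elsC i, okC a = true ∧ a ∉ A2L) ∧ ∀ a ∈ elsC i, ∀ b ∈ elsC i, mm a b ∈ elsC i := by
  have h := nodeOK_ok hi
  simp only [nodeOK, Bool.and_eq_true, memB_iff, List.all_eq_true, Bool.not_eq_true',
    and_assoc] at h
  obtain ⟨h1, h2, h3, h4⟩ := h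
  exact ⟨h1, nodup_of_nodupB h2,
    fun a ha => ⟨(h3 a ha).1, fun hm => Bool.noConfusion
      ((memB_iff.2 hm).symm.trans (h3 a ha).2)⟩, h4⟩

/-- a node as a subgroup -/
def node (i : Fin nN) : Subgroup Sp where
  carrier := {g | ∃ a ∈ elsC i, phi a = g}
  one_mem' := ⟨oneC, (els_ok i.2).1, phi_one⟩
  mul_mem' := by
    rintro _ _ ⟨a, ha, rfl⟩ ⟨b, hb, rfl⟩
    exact ⟨_, (els_ok i.2).2.2.2 a ha b hb,
      phi_mul (okC_sym ((els_ok i.2).2.2.1 a ha).1) (okC_sym ((els_ok i.2).2.2.1 b hb).1)⟩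
  inv_mem' := by
    rintro g ⟨a, ha, rfl⟩
    have hp : ∀ n, ∃ b ∈ elsC i, phi b = phi a ^ n := by
      intro n
      induction n with
      | zero => exact ⟨oneC, (els_ok i.2).1, by rw [pow_zero, phi_one]⟩
      | succ n ih =>
        obtain ⟨b, hb, e⟩ := ih
        exact ⟨_, (els_ok i.2).2.2.2 b hb a ha, by
          rw [phi_mul (okC_sym ((els_ok i.2).2.2.1 b hb).1) (okC_sym ((els_ok i.2).2.2.1 a ha).1),
            e, pow_succ]⟩
    obtain ⟨b, hb, e⟩ := hp (orderOf (phi a) - 1)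
    refine ⟨b, hb, e.trans (inv_eq_of_mul_eq_one_right ?_).symm⟩
    rw [← pow_succ', Nat.sub_add_cancel (orderOf_pos (phi a)), pow_orderOf_eq_one]

theorem node_le (i : Fin nN) : node i ≤ Syl := by
  rintro _ ⟨a, ha, rfl⟩
  exact phi_mem ((els_ok i.2).2.2.1 a ha).1

theorem phi_mem_node {i : Fin nN} {c : ℕ} (hc : okC c = true) :
    phi c ∈ node i ↔ c ∈ elsC i :=
  ⟨fun ⟨_, ha, e⟩ => phi_inj ((els_ok i.2).2.2.1 _ ha).1 hc e ▸ ha, fun h => ⟨c, h, rfl⟩⟩

theorem card_node (i : Fin nN) : Nat.card (node i) = (elsC i).length := by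
  classical
  rw [← List.toFinset_card_of_nodup (els_ok i.2).2.1, ← Nat.card_eq_finsetCard]
  refine (Nat.card_congr (Equiv.ofBijective (fun a : (elsC i).toFinset =>
    (⟨phi a.1, a.1, List.mem_toFinset.1 a.2, rfl⟩ : node i)) ⟨fun a b e => ?_, ?_⟩)).symm
  · exact Subtype.ext (phi_inj ((els_ok i.2).2.2.1 _ (List.mem_toFinset.1 a.2)).1
      ((els_ok i.2).2.2.1 _ (List.mem_toFinset.1 b.2)).1 (congrArg Subtype.val e :))
  · rintro ⟨_, c, hc, rfl⟩
    exact ⟨⟨c, List.mem_toFinset.2 hc⟩, rfl⟩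

theorem child_ok {i : ℕ} (hi : i < nN) (h0 : i ≠ 0) :
    (nodeAt i).par < i ∧ (nodeAt i).k ∈ centC (nodeAt i).par ∧
      elsC i = elsC (nodeAt i).par ++ (elsC (nodeAt i).par).map (mm (nodeAt i).k) ∧
      centC i = (centC (nodeAt i).par).filter
        (fun c => Nat.beq (mm c (nodeAt i).k) (mm (nodeAt i).k c)) := by
  have h := all_ok hi
  simp only [allOK, Bool.and_eq_true] at h
  have h' := h.1.1.2
  rw [if_neg (by simpa using h0)] at h'
  simpa only [childOK, Bool.and_eq_true, Nat.blt_eq, memB_iff, eqL_iff, and_assoc] using h'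

theorem root_ok : elsC 0 = [oneC] ∧ (∀ c ∈ centC 0, okC c = true) ∧ (centC 0).Nodup ∧
    ∀ c ∈ TL, c ∈ centC 0 := by
  have h := all_ok (show 0 < nN by norm_num)
  simp only [allOK, Bool.and_eq_true] at h
  have h' := h.1.1.2
  rw [if_pos (by rfl)] at h'
  simp only [rootOK, Bool.and_eq_true, eqL_iff, List.all_eq_true, memB_iff, and_assoc] at h'
  exact ⟨h'.1, h'.2.1, nodup_of_nodupB h'.2.2.1, h'.2.2.2⟩

theorem cent_nodup_ok : ∀ i < nN, (centC i).Nodup ∧ ∀ c ∈ centC i, okC c = true := by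
  intro i
  induction i using Nat.strong_induction_on with
  | _ i ih =>
    intro hi
    by_cases h0 : i = 0
    · subst h0; exact ⟨root_ok.2.2.1, root_ok.2.1⟩
    · obtain ⟨hlt, -, -, e⟩ := child_ok hi h0
      obtain ⟨h1, h2⟩ := ih _ hlt (hlt.trans hi)
      rw [e]
      exact ⟨h1.filter _, fun c hc => h2 c (List.mem_filter.1 hc).1⟩

/-- The listed centralizer is exact. -/
theorem cent_iff : ∀ i, ∀ hi : i < nN, ∀ {c : ℕ}, okC c = true →
    (c ∈ centC i ↔ ∀ g ∈ node ⟨i, hi⟩, phi c * g = g * phi c) := by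
  intro i
  induction i using Nat.strong_induction_on with
  | _ i ih =>
  intro hi c hc
  by_cases h0 : i = 0
  · subst h0
    refine iff_of_true (root_ok.2.2.2 c (mem_TL hc)) ?_
    rintro _ ⟨a, ha, rfl⟩
    rw [root_ok.1, List.mem_singleton] at ha
    rw [ha, phi_one, mul_one, one_mul]
  · obtain ⟨hlt, hk, hels, hcent⟩ := child_ok hi h0
    have hp : (nodeAt i).par < nN := hlt.trans hi
    have IH := @ih _ hlt hp c hc
    have hk4 := okC_sym ((cent_nodup_ok _ hp).2 _ hk)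
    have hkc := (cent_nodup_ok _ hp).2 _ hk
    have hmem : ∀ g, g ∈ node ⟨i, hi⟩ ↔ g ∈ node ⟨_, hp⟩ ∨
        ∃ h ∈ node ⟨_, hp⟩, g = phi (nodeAt i).k * h := by
      intro g
      constructor
      · rintro ⟨a, ha, rfl⟩
        simp only [hels, List.mem_append, List.mem_map] at ha
        rcases ha with ha | ⟨b, hb, rfl⟩
        · exact Or.inl ⟨a, ha, rfl⟩
        · exact Or.inr ⟨_, ⟨b, hb, rfl⟩, phi_mul hk4 (okC_sym ((els_ok hp).2.2.1 b hb).1)⟩
      · rintro (⟨a, ha, rfl⟩ | ⟨_, ⟨b, hb, rfl⟩, rfl⟩)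
        · exact ⟨a, by simp only [hels, List.mem_append]; exact Or.inl ha, rfl⟩
        · exact ⟨_, by simp only [hels, List.mem_append, List.mem_map]; exact Or.inr ⟨b, hb, rfl⟩,
            phi_mul hk4 (okC_sym ((els_ok hp).2.2.1 b hb).1)⟩
    rw [hcent, List.mem_filter, Nat.beq_eq, IH]
    constructor
    · rintro ⟨h1, h2⟩ g hg
      rcases (hmem g).1 hg with hg | ⟨h, hh, rfl⟩
      · exact h1 g hg
      · rw [← mul_assoc, ← phi_mul (okC_sym hc) hk4, h2, phi_mul hk4 (okC_sym hc), mul_assoc,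
          h1 h hh, mul_assoc]
    · refine fun h => ⟨fun g hg => h g ((hmem g).2 (Or.inl hg)), ?_⟩
      have := h _ ((hmem _).2 (Or.inr ⟨1, one_mem _, (mul_one _).symm⟩))
      rw [← phi_mul (okC_sym hc) hk4, ← phi_mul hk4 (okC_sym hc)] at this
      exact phi_inj (okC_mm hc hkc) (okC_mm hkc hc) this

/-- The family of nodes is closed. -/
theorem nodeFam : NodeFam z0 Syl node := by
  refine ⟨node_le, ⟨⟨0, by norm_num⟩, le_antisymm ?_ bot_le⟩, ?_⟩
  · rintro _ ⟨a, ha, rfl⟩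
    rw [root_ok.1, List.mem_singleton] at ha
    rw [ha, phi_one]; exact one_mem _
  rintro ⟨i, hi⟩ k hk he
  obtain ⟨c, hc, rfl⟩ := exists_ok hk
  have h := all_ok hi
  simp only [allOK, Bool.and_eq_true] at h
  have h' := h.1.2
  simp only [coverOK, Bool.and_eq_true, List.all_eq_true, Bool.or_eq_true, memB_iff,
    Bool.not_eq_true', List.mem_flatMap, List.mem_map] at h'
  have hcc : c ∈ centC i := (cent_iff i hi hc).2 he.comm
  have hn : c ∉ elsC i := fun hm => he.notMem ⟨c, hm, rfl⟩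
  have hs : mm c c ∈ elsC i := by
    rw [← phi_mem_node (i := ⟨i, hi⟩) (okC_mm hc hc), phi_mul (okC_sym hc) (okC_sym hc)]
    exact he.sq
  rcases h'.2 c hcc with (h1 | ⟨e, hme, a, ha, hea⟩) | h1
  · exact absurd h1 hn
  swap
  · rw [memB_iff.2 hs] at h1; exact Bool.noConfusion h1
  have he' := h'.1 e hme
  simp only [entOK, Bool.and_eq_true] at he'
  obtain ⟨hk0, he'⟩ := he'
  have hmm : ∀ b ∈ elsC i, phi (mm e.1 b) = phi e.1 * phi b := fun b hb =>
    phi_mul (okC_sym hk0) (okC_sym ((els_ok hi).2.2.1 b hb).1)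
  by_cases ht : e.2.2 = 0
  · rw [if_pos (by rw [ht]; rfl)] at he'
    simp only [Bool.and_eq_true, memB_iff] at he'
    obtain ⟨hx, hr⟩ := he'
    exfalso
    have hf := he.free ((phi a)⁻¹ * phi e.2.1)
      (mul_mem (inv_mem ⟨a, ha, rfl⟩) ⟨_, hx, rfl⟩)
    refine hf ?_
    rw [← hea, hmm a ha, mul_assoc, mul_inv_cancel_left, ← hmm _ hx]
    exact isConj_of_typB (typB_of_mem hr).1 (typB_of_mem hr).2
  · rw [if_neg (by simpa using ht)] at he'
    simp only [Bool.and_eq_true, Nat.blt_eq, Nat.beq_eq, List.all_eq_true, memB_iff, List.mem_map,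
      and_assoc] at he'
    obtain ⟨hj, hx, hlen, hall⟩ := he'
    have key : ∀ b, okC b = true → (∃ d ∈ elsC (e.2.2 - 1), mm d e.2.1 = mm e.2.1 b) →
        phi e.2.1 * phi b * (phi e.2.1)⁻¹ ∈ node ⟨e.2.2 - 1, hj⟩ := by
      rintro b hb ⟨d, hd, e'⟩
      refine ⟨d, hd, ?_⟩
      rw [← phi_mul (okC_sym hx) (okC_sym hb), ← e',
        phi_mul (okC_sym ((els_ok hj).2.2.1 d hd).1) (okC_sym hx), mul_inv_cancel_right]
    refine ⟨⟨e.2.2 - 1, hj⟩, phi e.2.1, phi_mem hx, ?_, ?_, ?_⟩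
    · rintro _ ⟨b, hb, rfl⟩
      exact key b ((els_ok hi).2.2.1 b hb).1 (hall b hb).1
    · exact key c hc (hea ▸ (hall a ha).2)
    · rw [card_node, card_node, hlen]

/-- the action on vectors -/
instance : DistribMulAction Sp V where
  smul g v := (g : Matrix I I (ZMod 2)) *ᵥ v
  one_smul v := one_mulVec v
  mul_smul g h v := (mulVec_mulVec v _ _).symm
  smul_zero g := mulVec_zero _
  smul_add g v w := mulVec_add _ v w

theorem smul_def (g : Sp) (v : V) : g • v = (g : Matrix I I (ZMod 2)) *ᵥ v := rfl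

instance : FaithfulSMul Sp V := ⟨fun {g h} e => Subtype.ext (by
  ext i j
  simpa [smul_def] using congrFun (e (Pi.single j 1)) i)⟩

/-- the invariant at the level of vectors -/
def Hit (a : Sp) (v : V) (b : ZMod 2) : Prop := ∃ w : V, a • w + w = v ∧ bil v w = b

theorem sig1_eq_iff {a : ℕ} (ha : okC a = true) {v w : ℕ} (hv : v < 64) (hw : w < 64) :
    sig1 a v = sig1 a w ↔ ∀ b, (Hit (phi a) (dv v) b ↔ Hit (phi a) (dv w) b) := by
  have key : ∀ v, v < 64 → ∀ b, b < 2 →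
      ((List.range 64).any (fun w => Nat.beq (ap a w ^^^ w) v && Nat.beq (Bb v w) b) = true ↔
        Hit (phi a) (dv v) (b : ZMod 2)) := by
    intro v hv b hb
    simp only [List.any_eq_true, List.mem_range, Bool.and_eq_true, Nat.beq_eq, Hit]
    have hx : ∀ u, u < 64 → ap a u ^^^ u < 64 := fun u hu =>
      Nat.xor_lt_two_pow (n := 6) (ap_lt _ _) hu
    constructor
    · rintro ⟨u, -, h1, h2⟩
      exact ⟨dv u, by rw [smul_def, coe_ok ha, dec_mulVec, ← dv_xor, h1], by rw [bil_dv, h2]⟩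
    · rintro ⟨x, h1, h2⟩
      obtain ⟨u, hu, rfl⟩ := dv_surjective x
      rw [smul_def, coe_ok ha, dec_mulVec, ← dv_xor, dv_inj_lt (hx u hu) hv] at h1
      rw [bil_dv, ZMod.natCast_eq_natCast_iff', Nat.mod_eq_of_lt (Bb_lt _ _),
        Nat.mod_eq_of_lt hb] at h2
      exact ⟨u, hu, h1, h2⟩
  have hb2 : ∀ b : ZMod 2, b = ((0 : ℕ) : ZMod 2) ∨ b = ((1 : ℕ) : ZMod 2) := by decide
  have k0 := key v hv 0 (by norm_num)
  have k1 := key v hv 1 (by norm_num)
  have l0 := key w hw 0 (by norm_num)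
  have l1 := key w hw 1 (by norm_num)
  have e : sig1 a v = sig1 a w ↔
      (Hit (phi a) (dv v) ((0 : ℕ) : ZMod 2) ↔ Hit (phi a) (dv w) ((0 : ℕ) : ZMod 2)) ∧
      (Hit (phi a) (dv v) ((1 : ℕ) : ZMod 2) ↔ Hit (phi a) (dv w) ((1 : ℕ) : ZMod 2)) := by
    rw [← k0, ← k1, ← l0, ← l1]
    simp only [sig1]
    split_ifs <;> simp_all
  rw [e]
  exact ⟨fun h b => by rcases hb2 b with rfl | rfl; exacts [h.1, h.2], fun h => ⟨h _, h _⟩⟩

theorem hit_smul {d a : Sp} (hda : d * a = a * d) (v : V) (b : ZMod 2) :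
    Hit a (d • v) b ↔ Hit a v b := by
  have key : ∀ (d : Sp), d * a = a * d → ∀ v, Hit a v b → Hit a (d • v) b := by
    rintro d hda v ⟨w, h1, h2⟩
    refine ⟨d • w, ?_, ?_⟩
    · rw [← mul_smul, ← hda, mul_smul, ← smul_add, h1]
    · rw [smul_def, smul_def, bil_mulVec, h2]
  refine ⟨fun h => ?_, key d hda v⟩
  have hc : Commute d a := hda
  simpa [smul_smul] using key d⁻¹ hc.inv_left _ h

theorem leaf_odd {i : ℕ} (hi : i < nN) (hl : leafOK i = true) (d : Sp) (hd : Odd (orderOf d))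
    (hc : ∀ a ∈ node ⟨i, hi⟩, d * a = a * d) : d = 1 := by
  have hp2 : IsPGroup 2 (node ⟨i, hi⟩) := by
    haveI : Fact (Nat.Prime 2) := ⟨Nat.prime_two⟩
    refine IsPGroup.of_card_dvd_pow (n := 9) ?_
    rw [show 2 ^ 9 = Nat.card Syl by rw [card_Syl]; norm_num]
    exact card_dvd_of_le (node_le _)
  refine eq_one_of_fix (V := V) (fun v => funext fun j => CharTwo.add_self_eq_zero (v j)) hp2 hd hc ?_
  intro x hx
  simp only [leafOK, Bool.and_eq_true, smallOK, List.all_eq_true, memB_iff, List.mem_map,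
    and_assoc] at hl
  obtain ⟨hat, hsm, -⟩ := hl
  set A := unp (nodeAt i).nA (nodeAt i).xA
  have hfix : ∀ y : V, (∀ a ∈ node ⟨i, hi⟩, a • y = y) → ∃ v, v ∈ fixC (elsC i) ∧ dv v = y := by
    intro y hy
    obtain ⟨v, hv, rfl⟩ := dv_surjective y
    refine ⟨v, ?_, rfl⟩
    simp only [fixC, List.mem_filter, List.mem_range, List.all_eq_true, Nat.beq_eq]
    refine ⟨hv, fun a ha => ?_⟩
    have h := hy _ ⟨a, ha, rfl⟩
    rw [smul_def, coe_ok ((els_ok hi).2.2.1 a ha).1, dec_mulVec, dv_inj_lt (ap_lt _ _) hv] at h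
    exact h
  have hdfix : ∀ y : V, (∀ a ∈ node ⟨i, hi⟩, a • y = y) → ∀ a ∈ node ⟨i, hi⟩, a • d • y = d • y :=
    fun y hy a ha => by rw [← mul_smul, ← hc a ha, mul_smul, hy a ha]
  obtain ⟨v, hv, rfl⟩ := hfix x hx
  obtain ⟨v1, hv1, e1⟩ := hfix _ (hdfix _ hx)
  obtain ⟨v2, hv2, e2⟩ := hfix _ (hdfix _ (hdfix _ hx))
  have hlt : ∀ u ∈ fixC (elsC i), u < 64 := fun u hu => List.mem_range.1 (List.mem_filter.1 hu).1
  have hsig : ∀ u u', u ∈ fixC (elsC i) → u' ∈ fixC (elsC i) → dv u' = d • dv u →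
      A.map (fun a => sig1 a u') = A.map (fun a => sig1 a u) := by
    intro u u' hu hu' e
    refine List.map_congr_left fun a ha => ?_
    have hae := hat a ha
    rw [sig1_eq_iff ((els_ok hi).2.2.1 a hae).1 (hlt _ hu') (hlt _ hu)]
    intro b
    rw [e]
    exact hit_smul (hc _ ⟨a, hae, rfl⟩) _ b
  have s1 := hsig v v1 hv hv1 e1
  have s2 := (hsig v1 v2 hv1 hv2 (by rw [e2, ← e1])).trans s1
  have h3 := hsm _ ⟨v, hv, rfl⟩
  rw [Nat.ble_eq] at h3
  by_contra hne
  have n1 : v1 ≠ v := fun h => hne (by rw [← e1, h])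
  have n2 : v2 ≠ v1 := fun h => by
    rw [← h] at e1
    exact hne (smul_left_cancel d (e2.symm.trans e1))
  by_cases n3 : v2 = v
  · subst n3
    obtain ⟨k, hk⟩ := hd
    have hev : ∀ n : ℕ, d ^ (2 * n) • dv v2 = dv v2 := by
      intro n
      induction n with
      | zero => simp
      | succ n ih => rw [Nat.mul_succ, pow_add, mul_smul, pow_two, mul_smul, ← e2, ih]
    have h : d ^ (2 * k + 1) • dv v2 = dv v2 := by rw [← hk, pow_orderOf_eq_one, one_smul]
    rw [pow_succ', mul_smul, hev] at h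
    exact hne h
  · have hmemq : ∀ u ∈ fixC (elsC i), A.map (fun a => sig1 a u) = A.map (fun a => sig1 a v) →
        (u, A.map fun a => sig1 a u) ∈ ((fixC (elsC i)).map fun u => (u, A.map fun a => sig1 a u)).filter
          (fun q => eqL q.2 (A.map fun a => sig1 a v)) := fun u hu e =>
      List.mem_filter.2 ⟨List.mem_map.2 ⟨u, hu, rfl⟩, eqL_iff.2 e⟩
    have m0 := hmemq v hv rfl
    have m1 := hmemq v1 hv1 s1
    have m2 := hmemq v2 hv2 s2
    have hsub : [(v, A.map fun a => sig1 a v), (v1, A.map fun a => sig1 a v1),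
        (v2, A.map fun a => sig1 a v2)] ⊆ _ :=
      List.cons_subset.2 ⟨m0, List.cons_subset.2 ⟨m1, List.cons_subset.2 ⟨m2, List.nil_subset _⟩⟩⟩
    have hnd : [(v, A.map fun a => sig1 a v), (v1, A.map fun a => sig1 a v1),
        (v2, A.map fun a => sig1 a v2)].Nodup := by
      simp [n1.symm, n2.symm, Ne.symm n3]
    have := (List.subperm_of_subset hnd hsub).length_le
    simp only [List.length_cons, List.length_nil] at this
    exact absurd (this.trans h3) (by norm_num)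

/-- Each node has an extension or is small. -/
theorem node_term (i : Fin nN) : (∃ k, Ext z0 (node i) k) ∨ OddBound (node i) := by
  obtain ⟨i, hi⟩ := i
  have h := all_ok hi
  simp only [allOK, Bool.and_eq_true] at h
  have ht := h.2
  rw [termOK] at ht
  by_cases hw : (nodeAt i).wit = 0
  · rw [if_pos (by rw [hw]; rfl)] at ht
    right
    intro K hK hodd
    have h1 : K = ⊥ := by
      refine (Subgroup.eq_bot_iff_forall _).2 fun d hd => leaf_odd hi ht d ?_ ?_
      · refine hodd.of_dvd_nat ?_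
        rw [← Subgroup.orderOf_mk (a := d) hd]
        exact orderOf_dvd_natCard _
      · exact fun a ha => (mem_centralizer_iff.1 (hK hd) a ha).symm
    rw [h1, card_bot, one_mul, card_node]
    simp only [leafOK, Bool.and_eq_true, Nat.blt_eq] at ht
    set L := (centC i).filter fun c => !memB c (elsC i) && memB (mm c c) (elsC i)
    have hL : L.Nodup := (cent_nodup_ok i hi).1.filter _
    refine lt_of_lt_of_le ht.2 ?_
    classical
    rw [← List.toFinset_card_of_nodup hL, ← Nat.card_eq_finsetCard]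
    have hok : ∀ c ∈ L, okC c = true := fun c hc =>
      (cent_nodup_ok i hi).2 c (List.mem_filter.1 hc).1
    refine Nat.card_le_card_of_injective
      (fun c : L.toFinset => (⟨phi c.1, ?_⟩ : {x : Sp // x ∈ centralizer (node ⟨i, hi⟩ : Set Sp) ∧
        x ∉ node ⟨i, hi⟩ ∧ x * x ∈ node ⟨i, hi⟩})) fun a b e => ?_
    · have hcL := List.mem_toFinset.1 c.2
      have hcm := List.mem_filter.1 hcL
      have hcok := hok _ hcL
      simp only [Bool.and_eq_true, Bool.not_eq_true', memB_iff] at hcm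
      refine ⟨mem_centralizer_iff.2 fun g hg => ((cent_iff i hi hcok).1 hcm.1 g hg).symm,
        fun hm => ?_, ?_⟩
      · rw [memB_iff.2 ((phi_mem_node hcok).1 hm)] at hcm
        exact Bool.noConfusion hcm.2.1
      · exact ⟨_, hcm.2.2, phi_mul (okC_sym hcok) (okC_sym hcok)⟩
    · exact Subtype.ext (phi_inj (hok _ (List.mem_toFinset.1 a.2)) (hok _ (List.mem_toFinset.1 b.2))
        (congrArg Subtype.val e :))
  · rw [if_neg (by simpa using hw)] at ht
    left
    simp only [witOK, Bool.and_eq_true, Nat.blt_eq, Bool.not_eq_true', memB_iff, List.all_eq_true,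
      Nat.beq_eq, and_assoc] at ht
    obtain ⟨hs, hlt, hn, hq, hall⟩ := ht
    have hmm : ∀ b ∈ elsC i, phi (mm (nodeAt i).wit b) = phi (nodeAt i).wit * phi b := fun b hb =>
      phi_mul hs (okC_sym ((els_ok hi).2.2.1 b hb).1)
    refine ⟨phi (nodeAt i).wit, fun hm => ?_, ?_, ⟨_, hq, phi_mul hs hs⟩, ?_⟩
    · obtain ⟨a, ha, e⟩ := hm
      have hak : a = (nodeAt i).wit := dec_inj (okC_lt ((els_ok hi).2.2.1 a ha).1) hlt (by
        rw [← coe_ok ((els_ok hi).2.2.1 a ha).1, ← coe_phi hs, e])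
      rw [hak] at ha
      rw [memB_iff.2 ha] at hn
      exact Bool.noConfusion hn
    · rintro _ ⟨a, ha, rfl⟩
      rw [← hmm a ha, (hall a ha).1, phi_mul (okC_sym ((els_ok hi).2.2.1 a ha).1) hs]
    · rintro _ ⟨a, ha, rfl⟩ hcj
      have hsa := symOK_mm hs (okC_sym ((els_ok hi).2.2.1 a ha).1)
      rw [← hmm a ha] at hcj
      have := (isA2_phi hsa).1 (isA2_of_isConj hcj)
      rw [(hall a ha).2] at this
      exact Bool.noConfusion this

/-- The census inside the flag group. -/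
theorem census_Syl (J : Subgroup Sp) (hJS : J ≤ Syl) (hJ : Clean z0 J) :
    (∃ k, Ext z0 J k) ∨ OddBound J :=
  by
    obtain ⟨i, s, -, hs⟩ := nodeFam.reach hJS hJ
    rcases node_term i with ⟨k, hk⟩ | hb
    · have h := hk.cj s⁻¹
      rw [← hs, cjS_inv_cjS] at h
      exact Or.inl ⟨_, h⟩
    · have h := oddBound_cj hb s⁻¹
      rw [← hs, cjS_inv_cjS] at h
      exact Or.inr h

end CfsgLib.Fusion.Sp62Census
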